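import Cfsg.Agent.Lib.CosetEnum.Fi22U6.Data

/-!
# Checks for Fi22U6
-/

set_option autoImplicit false

namespace Cfsg.Agent.Lib.CosetEnum.Fi22U6

open Cfsg.Agent.Lib.CosetEnum

theorem close_chunk0 : allUpTo cert.closeOk 0 444 = true := by decide +kernel

theorem close_chunk1 : allUpTo cert.closeOk 444 444 = true := by decide +kernel

theorem close_chunk2 : allUpTo cert.closeOk 888 444 = true := by decide +kernel

theorem close_chunk3 : allUpTo cert.closeOk 1332 444 = true := by decide +kernel

end Cfsg.Agent.Lib.CosetEnum.Fi22U6
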