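import Cfsg.Agent.Lib.CosetEnum.Fi22U6.Data

/-!
# Checks for Fi22U6
-/

set_option autoImplicit false

namespace Cfsg.Agent.Lib.CosetEnum.Fi22U6

open Cfsg.Agent.Lib.CosetEnum

theorem rels_chunk4 : allUpTo cert.relOk 460 115 = true := by decide +kernel

theorem rels_chunk5 : allUpTo cert.relOk 575 115 = true := by decide +kernel

theorem rels_chunk6 : allUpTo cert.relOk 690 115 = true := by decide +kernel

theorem rels_chunk7 : allUpTo cert.relOk 805 115 = true := by decide +kernel

end Cfsg.Agent.Lib.CosetEnum.Fi22U6
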