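import Cfsg.Agent.Lib.CosetEnum.Fi22U6.Data

/-!
# Checks for Fi22U6
-/

set_option autoImplicit false

namespace Cfsg.Agent.Lib.CosetEnum.Fi22U6

open Cfsg.Agent.Lib.CosetEnum

theorem rels_chunk24 : allUpTo cert.relOk 2760 115 = true := by decide +kernel

theorem rels_chunk25 : allUpTo cert.relOk 2875 115 = true := by decide +kernel

theorem rels_chunk26 : allUpTo cert.relOk 2990 115 = true := by decide +kernel

theorem rels_chunk27 : allUpTo cert.relOk 3105 115 = true := by decide +kernel

end Cfsg.Agent.Lib.CosetEnum.Fi22U6
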