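import Cfsg.Agent.Lib.CosetEnum.Close
import Cfsg.Agent.Lib.CosetEnum.Fi22U6.Check0
import Cfsg.Agent.Lib.CosetEnum.Fi22U6.Check1
import Cfsg.Agent.Lib.CosetEnum.Fi22U6.Check2
import Cfsg.Agent.Lib.CosetEnum.Fi22U6.Check3
import Cfsg.Agent.Lib.CosetEnum.Fi22U6.Check4
import Cfsg.Agent.Lib.CosetEnum.Fi22U6.Check5
import Cfsg.Agent.Lib.CosetEnum.Fi22U6.Check6
import Cfsg.Agent.Lib.CosetEnum.Fi22U6.Check7
import Cfsg.Agent.Lib.CosetEnum.Fi22U6.Check8
import Cfsg.Agent.Lib.CosetEnum.Fi22U6.Check9
import Cfsg.Agent.Lib.CosetEnum.Fi22U6.Check10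
import Cfsg.Agent.Lib.CosetEnum.Fi22U6.Check11

/-!
# The certificate for Fi22U6 is correct
-/

set_option autoImplicit false

namespace Cfsg.Agent.Lib.CosetEnum.Fi22U6

open Cfsg.Agent.Lib.CosetEnum

theorem items_upTo0 : ∀ i < 0 + 8000, cert.itemOk i = true :=
  allUpTo_append (n := 0) (fun i hi => absurd hi (Nat.not_lt_zero i)) items_chunk0

theorem items_upTo1 : ∀ i < 8000 + 8000, cert.itemOk i = true :=
  allUpTo_append (n := 8000) items_upTo0 items_chunk1

theorem items_upTo2 : ∀ i < 16000 + 8000, cert.itemOk i = true :=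
  allUpTo_append (n := 16000) items_upTo1 items_chunk2

theorem items_upTo3 : ∀ i < 24000 + 7624, cert.itemOk i = true :=
  allUpTo_append (n := 24000) items_upTo2 items_chunk3

theorem close_upTo0 : ∀ i < 0 + 444, cert.closeOk i = true :=
  allUpTo_append (n := 0) (fun i hi => absurd hi (Nat.not_lt_zero i)) close_chunk0

theorem close_upTo1 : ∀ i < 444 + 444, cert.closeOk i = true :=
  allUpTo_append (n := 444) close_upTo0 close_chunk1

theorem close_upTo2 : ∀ i < 888 + 444, cert.closeOk i = true :=
  allUpTo_append (n := 888) close_upTo1 close_chunk2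

theorem close_upTo3 : ∀ i < 1332 + 444, cert.closeOk i = true :=
  allUpTo_append (n := 1332) close_upTo2 close_chunk3

theorem close_upTo4 : ∀ i < 1776 + 444, cert.closeOk i = true :=
  allUpTo_append (n := 1776) close_upTo3 close_chunk4

theorem close_upTo5 : ∀ i < 2220 + 444, cert.closeOk i = true :=
  allUpTo_append (n := 2220) close_upTo4 close_chunk5

theorem close_upTo6 : ∀ i < 2664 + 444, cert.closeOk i = true :=
  allUpTo_append (n := 2664) close_upTo5 close_chunk6

theorem close_upTo7 : ∀ i < 3108 + 402, cert.closeOk i = true :=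
  allUpTo_append (n := 3108) close_upTo6 close_chunk7

theorem rels_upTo0 : ∀ i < 0 + 115, cert.relOk i = true :=
  allUpTo_append (n := 0) (fun i hi => absurd hi (Nat.not_lt_zero i)) rels_chunk0

theorem rels_upTo1 : ∀ i < 115 + 115, cert.relOk i = true :=
  allUpTo_append (n := 115) rels_upTo0 rels_chunk1

theorem rels_upTo2 : ∀ i < 230 + 115, cert.relOk i = true :=
  allUpTo_append (n := 230) rels_upTo1 rels_chunk2

theorem rels_upTo3 : ∀ i < 345 + 115, cert.relOk i = true :=
  allUpTo_append (n := 345) rels_upTo2 rels_chunk3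

theorem rels_upTo4 : ∀ i < 460 + 115, cert.relOk i = true :=
  allUpTo_append (n := 460) rels_upTo3 rels_chunk4

theorem rels_upTo5 : ∀ i < 575 + 115, cert.relOk i = true :=
  allUpTo_append (n := 575) rels_upTo4 rels_chunk5

theorem rels_upTo6 : ∀ i < 690 + 115, cert.relOk i = true :=
  allUpTo_append (n := 690) rels_upTo5 rels_chunk6

theorem rels_upTo7 : ∀ i < 805 + 115, cert.relOk i = true :=
  allUpTo_append (n := 805) rels_upTo6 rels_chunk7

theorem rels_upTo8 : ∀ i < 920 + 115, cert.relOk i = true :=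
  allUpTo_append (n := 920) rels_upTo7 rels_chunk8

theorem rels_upTo9 : ∀ i < 1035 + 115, cert.relOk i = true :=
  allUpTo_append (n := 1035) rels_upTo8 rels_chunk9

theorem rels_upTo10 : ∀ i < 1150 + 115, cert.relOk i = true :=
  allUpTo_append (n := 1150) rels_upTo9 rels_chunk10

theorem rels_upTo11 : ∀ i < 1265 + 115, cert.relOk i = true :=
  allUpTo_append (n := 1265) rels_upTo10 rels_chunk11

theorem rels_upTo12 : ∀ i < 1380 + 115, cert.relOk i = true :=
  allUpTo_append (n := 1380) rels_upTo11 rels_chunk12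

theorem rels_upTo13 : ∀ i < 1495 + 115, cert.relOk i = true :=
  allUpTo_append (n := 1495) rels_upTo12 rels_chunk13

theorem rels_upTo14 : ∀ i < 1610 + 115, cert.relOk i = true :=
  allUpTo_append (n := 1610) rels_upTo13 rels_chunk14

theorem rels_upTo15 : ∀ i < 1725 + 115, cert.relOk i = true :=
  allUpTo_append (n := 1725) rels_upTo14 rels_chunk15

theorem rels_upTo16 : ∀ i < 1840 + 115, cert.relOk i = true :=
  allUpTo_append (n := 1840) rels_upTo15 rels_chunk16

theorem rels_upTo17 : ∀ i < 1955 + 115, cert.relOk i = true :=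
  allUpTo_append (n := 1955) rels_upTo16 rels_chunk17

theorem rels_upTo18 : ∀ i < 2070 + 115, cert.relOk i = true :=
  allUpTo_append (n := 2070) rels_upTo17 rels_chunk18

theorem rels_upTo19 : ∀ i < 2185 + 115, cert.relOk i = true :=
  allUpTo_append (n := 2185) rels_upTo18 rels_chunk19

theorem rels_upTo20 : ∀ i < 2300 + 115, cert.relOk i = true :=
  allUpTo_append (n := 2300) rels_upTo19 rels_chunk20

theorem rels_upTo21 : ∀ i < 2415 + 115, cert.relOk i = true :=
  allUpTo_append (n := 2415) rels_upTo20 rels_chunk21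

theorem rels_upTo22 : ∀ i < 2530 + 115, cert.relOk i = true :=
  allUpTo_append (n := 2530) rels_upTo21 rels_chunk22

theorem rels_upTo23 : ∀ i < 2645 + 115, cert.relOk i = true :=
  allUpTo_append (n := 2645) rels_upTo22 rels_chunk23

theorem rels_upTo24 : ∀ i < 2760 + 115, cert.relOk i = true :=
  allUpTo_append (n := 2760) rels_upTo23 rels_chunk24

theorem rels_upTo25 : ∀ i < 2875 + 115, cert.relOk i = true :=
  allUpTo_append (n := 2875) rels_upTo24 rels_chunk25

theorem rels_upTo26 : ∀ i < 2990 + 115, cert.relOk i = true :=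
  allUpTo_append (n := 2990) rels_upTo25 rels_chunk26

theorem rels_upTo27 : ∀ i < 3105 + 115, cert.relOk i = true :=
  allUpTo_append (n := 3105) rels_upTo26 rels_chunk27

theorem rels_upTo28 : ∀ i < 3220 + 115, cert.relOk i = true :=
  allUpTo_append (n := 3220) rels_upTo27 rels_chunk28

theorem rels_upTo29 : ∀ i < 3335 + 115, cert.relOk i = true :=
  allUpTo_append (n := 3335) rels_upTo28 rels_chunk29

theorem rels_upTo30 : ∀ i < 3450 + 60, cert.relOk i = true :=
  allUpTo_append (n := 3450) rels_upTo29 rels_chunk30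

theorem back_upTo0 : ∀ i < 0 + 3510, cert.backOk i = true :=
  allUpTo_append (n := 0) (fun i hi => absurd hi (Nat.not_lt_zero i)) back_chunk0

theorem imgs_upTo0 : ∀ i < 0 + 3516, cert.imgOk i = true :=
  allUpTo_append (n := 0) (fun i hi => absurd hi (Nat.not_lt_zero i)) imgs_chunk0

theorem checked : cert.Checked where
  items := items_upTo3
  close := close_upTo7
  rels := rels_upTo30
  back := back_upTo0
  imgs := imgs_upTo0
  base := by decide +kernel
  small := by decide +kernel

end Cfsg.Agent.Lib.CosetEnum.Fi22U6
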