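import Cfsg.Agent.Lib.CosetEnum.Cert
import Cfsg.Agent.Lib.CosetEnum.Fi22U6.Items
import Cfsg.Agent.Lib.CosetEnum.Fi22U6.Slots
import Cfsg.Agent.Lib.CosetEnum.Fi22U6.Defs
import Cfsg.Agent.Lib.CosetEnum.Fi22U6.Tab
import Cfsg.Agent.Lib.CosetEnum.Fi22U6.Nm
import Cfsg.Agent.Lib.CosetEnum.Fi22U6.Img

/-!
# Certificate data for Fi22U6
-/

set_option autoImplicit false

namespace Cfsg.Agent.Lib.CosetEnum.Fi22U6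

open Cfsg.Agent.Lib.CosetEnum

/-- the certificate -/
def cert : CE where
  A := 9
  N := 3510
  M := 31624
  K := 3516
  inv := [0, 1, 2, 3, 4, 5, 6, 7, 8]
  rels := [[0, 0],
    [0, 1, 0, 1, 0, 1],
    [0, 2, 0, 2],
    [0, 3, 0, 3],
    [0, 4, 0, 4],
    [0, 7, 0, 7],
    [0, 5, 0, 5],
    [0, 6, 0, 6],
    [0, 8, 0, 8],
    [1, 0, 1, 0, 1, 0],
    [1, 1],
    [1, 2, 1, 2, 1, 2],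
    [1, 3, 1, 3],
    [1, 4, 1, 4],
    [1, 7, 1, 7],
    [1, 5, 1, 5],
    [1, 6, 1, 6],
    [1, 8, 1, 8],
    [2, 0, 2, 0],
    [2, 1, 2, 1, 2, 1],
    [2, 2],
    [2, 3, 2, 3, 2, 3],
    [2, 4, 2, 4],
    [2, 7, 2, 7],
    [2, 5, 2, 5],
    [2, 6, 2, 6],
    [2, 8, 2, 8],
    [3, 0, 3, 0],
    [3, 1, 3, 1],
    [3, 2, 3, 2, 3, 2],
    [3, 3],
    [3, 4, 3, 4, 3, 4],
    [3, 7, 3, 7, 3, 7],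
    [3, 5, 3, 5],
    [3, 6, 3, 6],
    [3, 8, 3, 8],
    [4, 0, 4, 0],
    [4, 1, 4, 1],
    [4, 2, 4, 2],
    [4, 3, 4, 3, 4, 3],
    [4, 4],
    [4, 7, 4, 7],
    [4, 5, 4, 5, 4, 5],
    [4, 6, 4, 6],
    [4, 8, 4, 8],
    [7, 0, 7, 0],
    [7, 1, 7, 1],
    [7, 2, 7, 2],
    [7, 3, 7, 3, 7, 3],
    [7, 4, 7, 4],
    [7, 7],
    [7, 5, 7, 5],
    [7, 6, 7, 6],
    [7, 8, 7, 8, 7, 8],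
    [5, 0, 5, 0],
    [5, 1, 5, 1],
    [5, 2, 5, 2],
    [5, 3, 5, 3],
    [5, 4, 5, 4, 5, 4],
    [5, 7, 5, 7],
    [5, 5],
    [5, 6, 5, 6, 5, 6],
    [5, 8, 5, 8],
    [6, 0, 6, 0],
    [6, 1, 6, 1],
    [6, 2, 6, 2],
    [6, 3, 6, 3],
    [6, 4, 6, 4],
    [6, 7, 6, 7],
    [6, 5, 6, 5, 6, 5],
    [6, 6],
    [6, 8, 6, 8],
    [8, 0, 8, 0],
    [8, 1, 8, 1],
    [8, 2, 8, 2],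
    [8, 3, 8, 3],
    [8, 4, 8, 4],
    [8, 7, 8, 7, 8, 7],
    [8, 5, 8, 5],
    [8, 6, 8, 6],
    [8, 8],
    [3, 2, 1, 3, 4, 5, 3, 7, 8, 3, 2, 1, 3, 4, 5, 3, 7, 8, 3, 2, 1, 3, 4, 5, 3, 7, 8, 3, 2, 1, 3, 4, 5, 3, 7, 8, 3, 2, 1, 3, 4, 5, 3, 7, 8, 3, 2, 1, 3, 4, 5, 3, 7, 8, 3, 2, 1, 3, 4, 5, 3, 7, 8, 3, 2, 1, 3, 4, 5, 3, 7, 8, 3, 2, 1, 3, 4, 5, 3, 7, 8, 3, 2, 1, 3, 4, 5, 3, 7, 8],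
    [0, 1, 2, 3, 4, 5, 7, 0, 1, 2, 3, 4, 5, 7, 0, 1, 2, 3, 4, 5, 7, 0, 1, 2, 3, 4, 5, 7, 0, 1, 2, 3, 4, 5, 7, 0, 1, 2, 3, 4, 5, 7, 0, 1, 2, 3, 4, 5, 7, 0, 1, 2, 3, 4, 5, 7, 0, 1, 2, 3, 4, 5, 7],
    [1, 2, 3, 4, 5, 6, 7, 1, 2, 3, 4, 5, 6, 7, 1, 2, 3, 4, 5, 6, 7, 1, 2, 3, 4, 5, 6, 7, 1, 2, 3, 4, 5, 6, 7, 1, 2, 3, 4, 5, 6, 7, 1, 2, 3, 4, 5, 6, 7, 1, 2, 3, 4, 5, 6, 7, 1, 2, 3, 4, 5, 6, 7]]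
  subs := [[0],
    [2],
    [3],
    [4],
    [5],
    [6],
    [7],
    [8],
    [0, 1, 2, 3, 4, 7, 0, 1, 2, 3, 4, 7, 0, 1, 2, 3, 4, 7, 0, 1, 2, 3, 4, 7, 0, 1, 2, 3, 4, 7]]
  items := items
  slots := slots
  defs := defs
  tab := tab
  nm := nm
  img := img

end Cfsg.Agent.Lib.CosetEnum.Fi22U6
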